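import Groth.Agent.PtBlow.Contraction
import Groth.Prelude.Def_CurvBase
import Groth.Agent.S4466
import Groth.Agent.GrT.TwistTensor
import Groth.Agent.CurveRR.Euler
import Groth.Agent.ZetaLib.Basic

/-!
The exceptional line of the blow-up of a point, over a ground field.
-/

set_option autoImplicit false
set_option backward.isDefEq.respectTransparency false
set_option backward.isDefEq.respectTransparency.types false
set_option linter.style.haveILetI false

universe u

open CategoryTheory CategoryTheory.Limits AlgebraicGeometry TopologicalSpace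

noncomputable section

namespace Groth.Agent.PtPush

open Groth.Agent.BlowUpExist Groth.Agent.PtBlow

/-- The exceptional line with its structure map. -/
theorem exists_line_data {X : Scheme.{u}} [IsNoetherian X] {x : X} (hx : IsRegPt X x) {X' : Scheme.{u}}
    {b : X' ⟶ X} (hb : BlowUp.IsBlowUp b (pt hx)) :
    ∃ (K : Type u) (_ : Field K) (ι : CohB1.ProjSpace 1 K ⟶ X') (i : Spec (CommRingCat.of K) ⟶ X),
      IsClosedImmersion ι ∧ IsClosedImmersion i ∧ (∀ z, i z = x) ∧ ι.ker = (pt hx).comap b ∧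
      ι ≫ b = CohB1.ProjSpace.toSpec 1 K ≫ i ∧
      Nonempty ((Scheme.Modules.pullback ι).obj (ClSub.idealMod ((pt hx).comap b)) ≅
        Twist.twistProjSpace 1 K 1) := by
  haveI := isProper_blowUp hx hb
  obtain ⟨W, -, hxW, hdom, hnoeth, hmax, a₀, a₁, hG⟩ :=
    exists_goodNbhd x hx.closed hx.reg hx.dim ⊤ trivial
  let A := Γ(X, W.1)
  let m := (pt hx).ideal W
  letI : Field (A ⧸ m) := Ideal.Quotient.field m
  let k : Type u := A ⧸ m
  let π : A →+* k := Ideal.Quotient.mk m
  obtain ⟨c, r, hc, hr, -, hcS, hck, -, ⟨τ⟩⟩ :=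
    exists_line π hG hmax.ne_top Ideal.Quotient.mk_surjective Ideal.mk_ker
  obtain ⟨μ, hμ, hμr, hμb⟩ := BlowAmp.exists_model hb W
  let ι : CohB1.ProjSpace 1 k ⟶ X' := c ≫ μ
  let i : Spec (CommRingCat.of k) ⟶ X := Spec.map (CommRingCat.ofHom π) ≫ W.2.fromSpec
  have hιb : ι ≫ b = CohB1.ProjSpace.toSpec 1 k ≫ i := by
    rw [Category.assoc, hμb, reassoc_of% hcS]
  haveI : IsClosedImmersion (Spec.map (CommRingCat.ofHom π)) :=
    IsClosedImmersion.spec_of_surjective _ Ideal.Quotient.mk_surjective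
  have hi : ∀ z, i z = x := fun z => by
    have h1 : W.2.fromSpec (W.2.primeIdealOf ⟨x, hxW⟩) = x := W.2.fromSpec_primeIdealOf ⟨x, hxW⟩
    have h2 : Spec.map (CommRingCat.ofHom π) z = W.2.primeIdealOf ⟨x, hxW⟩ := by
      have hz : z.asIdeal = ⊥ := (Ideal.eq_bot_or_top z.asIdeal).resolve_right z.isPrime.ne_top
      refine PrimeSpectrum.ext ?_
      show z.asIdeal.comap π = _
      rw [hz, ← RingHom.ker_eq_comap_bot, Ideal.mk_ker]
      exact vanishingIdeal_ideal_eq hx.closed W hxW
    exact (Scheme.Hom.comp_apply _ _ _).trans ((congrArg (fun p => W.2.fromSpec p) h2).trans h1)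
  haveI : Nonempty (CohB1.ProjSpace 1 k) := by
    by_contra h
    haveI := not_nonempty_iff.1 h
    exact ProjMor.not_isAffine_projLine k inferInstance
  haveI : IsClosedImmersion i := by
    refine IsClosedImmersion.of_isPreimmersion i ?_
    have : Set.range i = {x} := by
      refine Set.eq_singleton_iff_unique_mem.2 ⟨?_, by rintro _ ⟨z, rfl⟩; exact hi z⟩
      exact ⟨CohB1.ProjSpace.toSpec 1 k (Classical.arbitrary _), hi _⟩
    rw [this]; exact hx.closed
  haveI := ProjMor.isProper_toSpec (n := 1) (R := k)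
  haveI : IsProper (ι ≫ b) := by rw [hιb]; infer_instance
  haveI : IsProper ι := IsProper.of_comp ι b
  haveI : IsClosedImmersion ι := IsClosedImmersion.of_isPreimmersion ι ι.isClosedMap.isClosed_range
  have hrange : ∀ z, b (ι z) = x := fun z => by
    rw [← Scheme.Hom.comp_apply, hιb, Scheme.Hom.comp_apply]; exact hi _
  let E := (pt hx).comap b
  have hEμ : E.comap μ = (sheafOf m).comap (structMap m) := by
    show ((pt hx).comap b).comap μ = _
    rw [← Scheme.IdealSheafData.comap_comp, hμb, Scheme.IdealSheafData.comap_comp, comap_fromSpec_eq]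
  have hP : IsPullback c (𝟙 _) μ ι := by
    refine IsOpenImmersion.isPullback _ _ _ _ (by simp [ι]) ?_
    refine (eq_top_iff.2 fun z _ => ?_).trans (Scheme.Hom.opensRange_of_isIso (𝟙 _)).symm
    exact ⟨c z, rfl⟩
  have hker : ι.ker = E := by
    have hμk : ι.ker.comap μ = E.comap μ := by
      rw [hEμ, ← hck]; exact (AlmostBlow.ker_of_isPullback hP.flip).symm
    have : ∀ y : X', ∃ V : X'.affineOpens, y ∈ V.1 ∧ ι.ker.ideal V = E.ideal V := fun y => by
      by_cases hy : b y ∈ W.1
      · obtain ⟨V, hV, hyV, hVle⟩ := exists_isAffineOpen_mem_and_subset (x := y) (U := b ⁻¹ᵁ W.1) hy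
        exact ⟨⟨V, hV⟩, hyV, ideal_eq_of_comap_eq μ hμk ⟨V, hV⟩ fun z hz => hμr.symm.subset (hVle hz)⟩
      · obtain ⟨V, hV, hyV, hVle⟩ := exists_isAffineOpen_mem_and_subset (x := y)
          (U := b ⁻¹ᵁ ⟨{x}ᶜ, hx.closed.isOpen_compl⟩) (fun h : b y = x => hy (h ▸ hxW))
        have hne : ∀ z ∈ V, b z ≠ x := fun z hz => hVle hz
        refine ⟨⟨V, hV⟩, hyV, ?_⟩
        rw [ideal_eq_top (I := E) fun z hz hzE => hne z hz ((mem_support_comap_pt b hx).1 hzE),
          ideal_eq_top (I := ι.ker) fun z hz hzE => ?_]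
        have hz' : z ∈ closure (Set.range ι) := by
          rw [← Scheme.Hom.support_ker]; exact hzE
        rw [ι.isClosedMap.isClosed_range.closure_eq] at hz'
        obtain ⟨w, rfl⟩ := hz'
        exact hne _ hz (hrange w)
    choose V hyV hV using this
    exact Scheme.IdealSheafData.ext_of_iSup_eq_top V
      (eq_top_iff.2 fun y _ => TopologicalSpace.Opens.mem_iSup.2 ⟨y, hyV y⟩) hV
  have hE : BlowUp.IsEffCartierIdeal E := hb.1
  obtain ⟨θ⟩ := Nakai.nonempty_pullback_idealMod μ hE (hEμ ▸ cartier_comap_structMap m)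
  rw [hEμ] at θ
  exact ⟨k, inferInstance, ι, i, inferInstance, inferInstance, hi, hker, hιb,
    ⟨((Scheme.Modules.pullbackComp c μ).app _).symm ≪≫ (Scheme.Modules.pullback c).mapIso θ ≪≫ τ⟩⟩

/-- The residue field at the image of a rational point. -/
theorem finrank_residueField (k : Type u) [Field k] {X : Scheme.{u}} [X.Over (Spec (CommRingCat.of k))]
    (K : Type u) [Field K] (i : Spec (CommRingCat.of K) ⟶ X) [IsClosedImmersion i] [Algebra k K]
    (hi : i ≫ (X ↘ Spec (CommRingCat.of k)) = Spec.map (CommRingCat.ofHom (algebraMap k K)))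
    {x : X} (hx : ∀ z, i z = x) :
    letI : Algebra k (X.residueField x) := Curv2.resAlgebra k X x
    Module.finrank k (X.residueField x) = Module.finrank k K := by
  let z : Spec (CommRingCat.of K) := (⊥ : PrimeSpectrum K)
  obtain rfl : i z = x := hx z
  letI : Algebra k (X.residueField (i z)) := Curv2.resAlgebra k X (i z)
  let ψ : K →+* (Spec (CommRingCat.of K)).residueField z :=
    ((Scheme.ΓSpecIso (CommRingCat.of K)).inv ≫ (Spec (CommRingCat.of K)).Γevaluation z).hom
  have hψ : Function.Bijective ψ := by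
    haveI : z.asIdeal.IsMaximal := Ideal.bot_isMaximal
    refine ⟨ψ.injective, fun a => ?_⟩
    let e := Scheme.Spec.residueFieldIso (CommRingCat.of K) z
    obtain ⟨c, hc⟩ := Ideal.algebraMap_residueField_surjective z.asIdeal (e.hom a)
    refine ⟨c, ?_⟩
    have h := DFunLike.congr_fun (CommRingCat.hom_ext_iff.mp
      (Scheme.Spec.algebraMap_residueFieldIso_inv (CommRingCat.of K) z)) c
    refine h.symm.trans ?_
    exact (congrArg e.inv hc).trans (e.hom_inv_id_apply a)
  let σ := RingEquiv.ofBijective ψ hψ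
  let ρ := RingEquiv.ofBijective (i.residueFieldMap z).hom (ZetaLib.residueFieldMap_bijective i z)
  refine (AlgEquiv.ofRingEquiv (f := ρ.trans σ.symm) fun a => σ.injective ?_).toLinearEquiv.finrank_eq
  refine (σ.apply_symm_apply _).trans ?_
  show i.residueFieldMap z (X.Γevaluation (i z) ((Coh.toGlobal (X ↘ Spec (CommRingCat.of k))) a)) = ψ (algebraMap k K a)
  rw [Scheme.Γevaluation_naturality_apply]
  refine congrArg ((Spec (CommRingCat.of K)).Γevaluation z) ?_
  show ((X ↘ Spec (CommRingCat.of k)).appTop ≫ i.appTop) ((Scheme.ΓSpecIso (CommRingCat.of k)).inv a) = _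
  rw [← Scheme.Hom.comp_appTop, hi]
  exact (DFunLike.congr_fun (CommRingCat.hom_ext_iff.mp
    (Scheme.ΓSpecIso_inv_naturality (CommRingCat.ofHom (algebraMap k K)))) a).symm

/-- Cohomology of a scheme over a field extension, over the smaller field. -/
theorem euler_tower (k : Type u) [Field k] (K : Type u) [Field K] [Algebra k K] (Y : Scheme.{u})
    (p : Y ⟶ Spec (CommRingCat.of K)) (M : Y.Modules) :
    @Curv2.euler k _ Y ⟨p ≫ Spec.map (CommRingCat.ofHom (algebraMap k K))⟩ M =
      (Module.finrank k K : ℤ) * @Curv2.euler K _ Y ⟨p⟩ M := by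
  letI : Y.Over (Spec (CommRingCat.of K)) := ⟨p⟩
  letI : Y.Over (Spec (CommRingCat.of k)) := ⟨p ≫ Spec.map (CommRingCat.ofHom (algebraMap k K))⟩
  rw [Curv2.euler, Curv2.euler, mul_finsum]
  · refine finsum_congr fun n => ?_
    haveI : IsScalarTower k K (Coh.HH Y M n) := IsScalarTower.of_algebraMap_smul fun a v => by
      show Coh.toGlobal p (algebraMap k K a) • v =
        Coh.toGlobal (p ≫ Spec.map (CommRingCat.ofHom (algebraMap k K))) a • v
      refine congrArg (fun w => w • v) ?_
      show p.appTop _ = (p ≫ Spec.map (CommRingCat.ofHom (algebraMap k K))).appTop _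
      rw [Scheme.Hom.comp_appTop, CommRingCat.comp_apply]
      exact congrArg p.appTop (DFunLike.congr_fun (CommRingCat.hom_ext_iff.mp
        (Scheme.ΓSpecIso_inv_naturality (CommRingCat.ofHom (algebraMap k K)))) a)
    rw [← Module.finrank_mul_finrank k K (Coh.HH Y M n)]
    push_cast
    ring

/-- `χ(O(d)) = d + 1` on the projective line. -/
theorem euler_twist (K : Type u) [Field K] (d : ℕ) :
    @Curv2.euler K _ (CohB1.ProjSpace 1 K) ⟨CohB1.ProjSpace.toSpec 1 K⟩ (Twist.twistProjSpace 1 K d) = d + 1 := by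
  have h := Groth.Agent.S4466.result K 1 one_pos d
  rw [Ring.choose_one_right] at h
  refine Eq.trans ?_ h
  refine finsum_eq_sum_of_support_subset _ fun j hj => ?_
  by_contra hlt
  simp only [Finset.coe_range, Set.mem_Iio] at hlt
  haveI := Groth.Agent.ProjCech.twist_vanish (R := K) 1 d j (by omega) (by omega)
  exact hj (by simp only [Module.finrank_zero_of_subsingleton, Nat.cast_zero, mul_zero])

theorem euler_structure_line (K : Type u) [Field K] :
    @Curv2.euler K _ (CohB1.ProjSpace 1 K) ⟨CohB1.ProjSpace.toSpec 1 K⟩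
      (Coh.structureModule (CohB1.ProjSpace 1 K)) = 1 := by
  obtain ⟨(e : Twist.twistProjSpace 1 K 0 ≅ Coh.structureModule (CohB1.ProjSpace 1 K))⟩ :=
    GrT.nonempty_twist_zero_iso (𝒜 := CohB1.polyGrading 1 K)
  letI : (CohB1.ProjSpace 1 K).Over (Spec (CommRingCat.of K)) := ⟨CohB1.ProjSpace.toSpec 1 K⟩
  rw [← CurveRR.euler_eq_of_iso (k := K) e]
  exact euler_twist K 0

end Groth.Agent.PtPush
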