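import Groth.Agent.PtPush.Tower
import Groth.Agent.PtPush.Line
import Groth.Agent.Intersect.CurveOnSurface
import Groth.Agent.S11746
import Groth.Agent.TMul.AmpleBasis

/-!
Intersection numbers on the blow-up of a regular point of a surface.
-/

set_option autoImplicit false
set_option backward.isDefEq.respectTransparency false
set_option backward.isDefEq.respectTransparency.types false
set_option linter.style.haveILetI false
set_option linter.unusedSectionVars false

universe u

open CategoryTheory CategoryTheory.Limits AlgebraicGeometry TopologicalSpace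

noncomputable section

namespace Groth.Agent.PtPush

variable {X X' : Scheme.{u}} {x : X} (hx : PtBlow.IsRegPt X x) {b : X' ⟶ X}
  (hb : BlowUp.IsBlowUp b (PtBlow.pt hx))

/-- Over a neighbourhood of the point and away from it, functions do not change. -/
theorem bijective_app_near [IsNoetherian X] (hX : ∀ y : X, IsRegularLocalRing (X.presheaf.stalk y))
    (hb : BlowUp.IsBlowUp b (PtBlow.pt hx)) (y : X) :
    ∃ U : X.Opens, y ∈ U ∧ ∀ V ≤ U, Function.Bijective (b.app V) := by
  have key : ∀ U : X.Opens, (∀ W, IsIso ((b ∣_ U).app W)) → ∀ V ≤ U, Function.Bijective (b.app V) := by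
    intro U h V hV
    have h1 := h (U.ι ⁻¹ᵁ V)
    rw [morphismRestrict_app] at h1
    haveI := h1
    haveI : IsIso (b.app (U.ι ''ᵁ (U.ι ⁻¹ᵁ V))) :=
      IsIso.of_isIso_comp_right (b.app (U.ι ''ᵁ (U.ι ⁻¹ᵁ V)))
        (X'.presheaf.map (eqToHom (image_morphismRestrict_preimage b U (U.ι ⁻¹ᵁ V))).op)
    have e : U.ι ''ᵁ (U.ι ⁻¹ᵁ V) = V := by
      rw [Scheme.Hom.image_preimage_eq_opensRange_inf, Scheme.Opens.opensRange_ι, inf_eq_right.2 hV]
    have h2 := ConcreteCategory.bijective_of_isIso (b.app (U.ι ''ᵁ (U.ι ⁻¹ᵁ V)))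
    rwa [e] at h2
  by_cases hy : y = x
  · obtain ⟨W, -, hxW, hdom, -⟩ := PtBlow.exists_goodNbhd x hx.closed hx.reg hx.dim ⊤ trivial
    refine ⟨W.1, hy ▸ hxW, key _ fun V => ?_⟩
    let U := W.1
    haveI : IsAffine U.toScheme := W.2
    haveI : Nonempty U.toScheme := ⟨⟨x, hxW⟩⟩
    haveI : IsDomain Γ(X, U) := hdom
    haveI : IsIntegral U.toScheme := by
      haveI : IsDomain Γ(U.toScheme, ⊤) := U.topIso.commRingCatIsoToRingEquiv.toMulEquiv.isDomain
      exact isIntegral_of_isAffine_of_isDomain _
    have hreg : ∀ z : U.toScheme, IsRegularLocalRing (U.toScheme.presheaf.stalk z) := fun z => by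
      haveI := hX z.1
      exact IsRegularLocalRing.of_ringEquiv (U.stalkIso z).commRingCatIsoToRingEquiv.symm
    have hx' : PtBlow.IsRegPt U.toScheme ⟨x, hxW⟩ := by
      refine ⟨?_, hreg _, ?_⟩
      · have : ({(⟨x, hxW⟩ : U)} : Set U) = Subtype.val ⁻¹' {x} := by
          exact Set.ext fun z => Subtype.ext_iff
        exact this ▸ hx.closed.preimage continuous_subtype_val
      · exact (ringKrullDim_eq_of_ringEquiv (U.stalkIso ⟨x, hxW⟩).commRingCatIsoToRingEquiv).trans hx.dim
    have hI : (PtBlow.pt hx).comap U.ι ≠ ⊥ := fun h => by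
      have h1 : genericPoint U.toScheme ∈ (((PtBlow.pt hx).comap U.ι).support : Set U.toScheme) := by
        rw [h, Scheme.IdealSheafData.support_bot]; trivial
      rw [Scheme.IdealSheafData.support_comap] at h1
      have h2 : U.ι (genericPoint U.toScheme) = x := by
        have : U.ι (genericPoint U.toScheme) ∈ ((PtBlow.pt hx).support : Set X) := h1
        rwa [PtBlow.coe_support_pt hx] at this
      exact genericPoint_ne hx' (Subtype.ext h2.symm)
    let e := (isPullback_morphismRestrict b U).isoPullback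
    have hb' : BlowUp.IsBlowUp (b ∣_ U) ((PtBlow.pt hx).comap U.ι) := by
      have := RZExt.isBlowUp_iso_comp (BlowUpLib.isBlowUp_flat U.ι hb) e.hom
      rwa [show e.hom ≫ pullback.fst U.ι b = b ∣_ U from IsPullback.isoPullback_hom_fst _] at this
    haveI := PtBlow.isProper_blowUp hx hb
    haveI := W7Fib.isIntegral_blowUp hI hb'
    haveI := BlowUpLib.isIso_restrict hb'
    exact StrictRat.isIso_app (b ∣_ U) (isNormal_of_regular hreg)
      (V' := ((PtBlow.pt hx).comap U.ι).support.compl) ⟨genericPoint U.toScheme, W7Fib.genericPoint_notMem_support hI⟩ V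
  · haveI := BlowUpLib.isIso_restrict hb
    refine ⟨(PtBlow.pt hx).support.compl, fun h => ?_, key _ fun W => inferInstance⟩
    have h' : y ∈ ((PtBlow.pt hx).support : Set X) := h
    rw [PtBlow.coe_support_pt hx] at h'
    exact hy h'

theorem nonempty_push_iso [IsNoetherian X] (hX : ∀ y : X, IsRegularLocalRing (X.presheaf.stalk y))
    (hb : BlowUp.IsBlowUp b (PtBlow.pt hx)) :
    Nonempty ((Scheme.Modules.pushforward b).obj (Coh.structureModule X') ≅ Coh.structureModule X) := by
  let ψ : Coh.structureModule X ⟶ (Scheme.Modules.pushforward b).obj (Coh.structureModule X') :=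
    SheafOfModules.unitToPushforwardObjUnit b.toRingCatSheafHom
  haveI : IsIso ψ := RelTilde.isIso_of_bijective_near _ fun y => bijective_app_near hx hX hb y
  exact ⟨(asIso ψ).symm⟩

theorem nonempty_iso_of_subsingleton {S : Scheme.{u}} [Subsingleton S] [Nonempty S] {L : S.Modules}
    (hL : PicF.IsInvertible L) : Nonempty (L ≅ Coh.structureModule S) := by
  obtain ⟨U, hU, ⟨φ⟩⟩ := hL (Classical.arbitrary S)
  obtain rfl : U = ⊤ := eq_top_iff.2 fun z _ => Subsingleton.elim (Classical.arbitrary S) z ▸ hU
  let a : (Scheme.Modules.pullback (⊤ : S.Opens).ι).obj L ≅ Coh.structureModule (⊤ : S.Opens).toScheme :=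
    ((Scheme.Modules.restrictFunctorIsoPullback (⊤ : S.Opens).ι).app L).symm ≪≫ φ
  have e : S.topIso.inv ≫ (⊤ : S.Opens).ι = 𝟙 S := S.topIso.inv_hom_id
  exact ⟨((Scheme.Modules.pullbackId S).app L).symm ≪≫ (Scheme.Modules.pullbackCongr e).symm.app L ≪≫
    ((Scheme.Modules.pullbackComp S.topIso.inv (⊤ : S.Opens).ι).app L).symm ≪≫
    (Scheme.Modules.pullback S.topIso.inv).mapIso a ≪≫ PicLoc.pullbackStructureIso _⟩

include hx in
/-- Intersection numbers on the blow-up of a point. -/
theorem intNum_blowUp (k : Type u) [Field k] [X.Over (Spec (CommRingCat.of k))]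
    [X'.Over (Spec (CommRingCat.of k))] [IsProper (X ↘ Spec (CommRingCat.of k))]
    (hover : b ≫ (X ↘ Spec (CommRingCat.of k)) = X' ↘ Spec (CommRingCat.of k))
    (hX : ∀ y : X, IsRegularLocalRing (X.presheaf.stalk y)) (hb : BlowUp.IsBlowUp b (PtBlow.pt hx))
    (hd : topologicalKrullDim X ≤ (2 : ℕ)) (hd' : topologicalKrullDim X' ≤ (2 : ℕ))
    (L M : X.Modules) (hL : PicF.IsInvertible L) (hM : PicF.IsInvertible M) :
    letI : Algebra k (X.residueField x) := Curv2.resAlgebra k X x
    FGA.intNum k X' 2 ![(Scheme.Modules.pullback b).obj L, (Scheme.Modules.pullback b).obj M] (Coh.structureModule X') =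
        FGA.intNum k X 2 ![L, M] (Coh.structureModule X) ∧
      FGA.intNum k X' 2 ![(Scheme.Modules.pullback b).obj L,
          ClSub.idealMod (BlowUp.exceptional b (PtBlow.pt hx))] (Coh.structureModule X') = 0 ∧
      FGA.intNum k X' 2 ![ClSub.idealMod (BlowUp.exceptional b (PtBlow.pt hx)),
          ClSub.idealMod (BlowUp.exceptional b (PtBlow.pt hx))] (Coh.structureModule X') =
        -(Module.finrank k (X.residueField x) : ℤ) := by
  haveI := CurveRR.isNoetherian_of_proper k X
  haveI := PtBlow.isProper_blowUp hx hb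
  haveI : IsProper (X' ↘ Spec (CommRingCat.of k)) := by rw [← hover]; infer_instance
  haveI := CurveRR.isNoetherian_of_proper k X'
  obtain ⟨K, _, ι, i, hι, hic, hi, hker, hιb, ⟨τ⟩⟩ := exists_line_data hx hb
  let E := BlowUp.exceptional b (PtBlow.pt hx)
  have hE : BlowUp.IsEffCartierIdeal E := hb.1
  have hker' : ι.ker = E := hker
  have hO : Coh.IsCoh (Coh.structureModule X') := RefStalk.isCoh_structureModule
  -- the base field of the line
  let α : k →+* K := (Spec.preimage (i ≫ (X ↘ Spec (CommRingCat.of k)))).hom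
  letI := α.toAlgebra
  have hα : i ≫ (X ↘ Spec (CommRingCat.of k)) = Spec.map (CommRingCat.ofHom (algebraMap k K)) :=
    (Spec.map_preimage _).symm
  have hdeg := finrank_residueField k K i hα hi
  have hstr : ι ≫ (X' ↘ Spec (CommRingCat.of k)) =
      CohB1.ProjSpace.toSpec 1 K ≫ Spec.map (CommRingCat.ofHom (algebraMap k K)) := by
    rw [← hα, ← hover, ← Category.assoc, hιb, Category.assoc]
  -- restriction to the exceptional line
  have key : ∀ A : X'.Modules, PicF.IsInvertible A →
      Curv2.euler k X' (CohB1.tensorMod (CohB1.tensorMod (Coh.structureModule X') (ClSub.quotMod E)) A) =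
        (Module.finrank k K : ℤ) * @Curv2.euler K _ (CohB1.ProjSpace 1 K) ⟨CohB1.ProjSpace.toSpec 1 K⟩
          ((Scheme.Modules.pullback ι).obj A) := fun A hA => by
    rw [← euler_tower k K (CohB1.ProjSpace 1 K) (CohB1.ProjSpace.toSpec 1 K), ← hstr,
      CurveRR.euler_eq_of_iso (PicGrp.tensorModIso (TMul.leftUnitIso _) (Iso.refl A)), ← hker']
    exact Intersect.euler_quot_twist k ι hA
  have key1 : Curv2.euler k X' (CohB1.tensorMod (Coh.structureModule X') (ClSub.quotMod E)) =
      (Module.finrank k K : ℤ) := by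
    have h := key (Coh.structureModule X') TMul.isInvertible_structureModule
    letI : (CohB1.ProjSpace 1 K).Over (Spec (CommRingCat.of K)) := ⟨CohB1.ProjSpace.toSpec 1 K⟩
    rw [CurveRR.euler_eq_of_iso (k := k) (TMul.commIso _ (Coh.structureModule X') ≪≫ TMul.leftUnitIso _),
      CurveRR.euler_eq_of_iso (k := K) (PicLoc.pullbackStructureIso ι), euler_structure_line, mul_one] at h
    exact h
  have hinter : ∀ A : X'.Modules, PicF.IsInvertible A →
      (FGA.intNum k X' 2 ![A, ClSub.idealMod E] (Coh.structureModule X') : ℚ) =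
        (Curv2.euler k X' (CohB1.tensorMod (Coh.structureModule X') (ClSub.quotMod E)) : ℚ) -
          Curv2.euler k X' (CohB1.tensorMod (CohB1.tensorMod (Coh.structureModule X') (ClSub.quotMod E)) A) := by
    intro A hA
    have hv : ∀ j : Fin 1, PicF.IsInvertible ((![A] : Fin 1 → X'.Modules) j) := fun j => by fin_cases j; exact hA
    rw [show (![A, ClSub.idealMod E] : Fin 2 → X'.Modules) = Fin.snoc ![A] (ClSub.idealMod E) from
        funext fun j => by fin_cases j <;> rfl,
      Intersect.intNum_snoc_ideal k 2 hd' hO hE (Intersect.notAss_of_effCartier hE) hv, Intersect.intNum_eq_alt k 2 hd',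
      show (![A] : Fin 1 → X'.Modules) = Fin.cons A ![] from rfl, Intersect.alt_cons, Intersect.alt_zero, Intersect.alt_zero]
  refine ⟨?_, ?_, ?_⟩
  · obtain ⟨e⟩ := nonempty_push_iso hx hX hb
    have h1 := Groth.Agent.S11746.result k X X' b hover 2 2 hd hd' ![L, M] (Intersect.isInvertible_vec₂ hL hM)
      (Coh.structureModule X') hO (by rw [Intersect.dim_support_structure]; exact hd')
    rw [show (fun j => (Scheme.Modules.pullback b).obj ((![L, M] : Fin 2 → X.Modules) j)) =
      ![(Scheme.Modules.pullback b).obj L, (Scheme.Modules.pullback b).obj M] from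
        funext fun j => by fin_cases j <;> rfl] at h1
    refine h1.trans ?_
    have h2 : (FGA.intNum k X 2 ![L, M] ((Coh.push b).obj (Coh.structureModule X')) : ℚ) =
        (FGA.intNum k X 2 ![L, M] (Coh.structureModule X) : ℚ) := by
      rw [Intersect.intNum_eq_alt k 2 hd, Intersect.intNum_eq_alt k 2 hd]
      exact congrArg Intersect.alt (Intersect.χt_iso k e _)
    exact_mod_cast h2
  · obtain ⟨o⟩ := nonempty_iso_of_subsingleton (PicLoc.isInvertible_pullback i hL)
    have h : (FGA.intNum k X' 2 ![(Scheme.Modules.pullback b).obj L, ClSub.idealMod E] (Coh.structureModule X') : ℚ) = 0 := by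
      rw [hinter _ (PicLoc.isInvertible_pullback b hL), key1, key _ (PicLoc.isInvertible_pullback b hL)]
      letI : (CohB1.ProjSpace 1 K).Over (Spec (CommRingCat.of K)) := ⟨CohB1.ProjSpace.toSpec 1 K⟩
      rw [CurveRR.euler_eq_of_iso (k := K) (show (Scheme.Modules.pullback ι).obj ((Scheme.Modules.pullback b).obj L) ≅
          Coh.structureModule (CohB1.ProjSpace 1 K) from (Scheme.Modules.pullbackComp ι b).app L ≪≫
        (Scheme.Modules.pullbackCongr hιb).app L ≪≫ ((Scheme.Modules.pullbackComp _ i).app L).symm ≪≫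
        (Scheme.Modules.pullback _).mapIso o ≪≫ PicLoc.pullbackStructureIso _), euler_structure_line]
      simp
    exact_mod_cast h
  · have h : (FGA.intNum k X' 2 ![ClSub.idealMod E, ClSub.idealMod E] (Coh.structureModule X') : ℚ) =
        -((Module.finrank k K : ℤ) : ℚ) := by
      rw [hinter _ (Intersect.isInvertible_ideal hE), key1, key _ (Intersect.isInvertible_ideal hE)]
      letI : (CohB1.ProjSpace 1 K).Over (Spec (CommRingCat.of K)) := ⟨CohB1.ProjSpace.toSpec 1 K⟩
      rw [CurveRR.euler_eq_of_iso (k := K) (show (Scheme.Modules.pullback ι).obj (ClSub.idealMod E) ≅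
        Twist.twistProjSpace 1 K ((1 : ℕ) : ℤ) from τ), euler_twist]
      push_cast
      ring
    rw [hdeg]
    exact_mod_cast h

end Groth.Agent.PtPush
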