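import Groth.Agent.PtPush.Local
import Groth.Agent.PtBlow.Seq
import Groth.Agent.PtBlow.Model
import Groth.Agent.RegBlow.Main
import Groth.Agent.DvrDom.ClosedProper
import Groth.Agent.StrictRat.Birat
import Groth.Agent.W7Fib.Birat
import Groth.Agent.UFDLib.Regular
import Groth.Agent.CohFinite.RPushVanish
import Groth.Agent.CohFinite.PushLinear

/-!
Blow-ups of points on regular integral schemes do not change the cohomology of the structure sheaf.
-/

set_option autoImplicit false
set_option backward.isDefEq.respectTransparency false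
set_option backward.isDefEq.respectTransparency.types false
set_option linter.style.haveILetI false
set_option linter.unusedSectionVars false

universe u

open CategoryTheory CategoryTheory.Limits AlgebraicGeometry TopologicalSpace
open Groth.Agent.SiteCoh (DirectAcyclic)

noncomputable section

namespace Groth.Agent.PtPush

variable {X X' : Scheme.{u}} {x : X} (hx : PtBlow.IsRegPt X x) {b : X' ⟶ X}
  (hb : BlowUp.IsBlowUp b (PtBlow.pt hx))

include hx in
theorem genericPoint_ne [IsIntegral X] : x ≠ genericPoint X := fun h => by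
  have h2 := hx.dim
  rw [h, ringKrullDim_eq_zero_of_isField (F := X.presheaf.stalk (genericPoint X)) (Field.toIsField X.functionField)] at h2
  exact absurd h2 (by decide)

theorem pt_ne_bot [IsIntegral X] : PtBlow.pt hx ≠ ⊥ := fun h => by
  have h1 : genericPoint X ∈ ((PtBlow.pt hx).support : Set X) := by
    rw [h, Scheme.IdealSheafData.support_bot]; trivial
  rw [PtBlow.coe_support_pt hx] at h1
  exact genericPoint_ne hx (Set.mem_singleton_iff.1 h1).symm

include hb

theorem isIntegral_blowUp [IsIntegral X] : IsIntegral X' := W7Fib.isIntegral_blowUp (pt_ne_bot hx) hb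

theorem exists_isIso_open [IsIntegral X] :
    ∃ U : X.Opens, (U : Set X).Nonempty ∧ IsIso (b ∣_ U) :=
  ⟨_, ⟨genericPoint X, W7Fib.genericPoint_notMem_support (pt_ne_bot hx)⟩, BlowUpLib.isIso_restrict hb⟩

theorem regular_blowUp [IsLocallyNoetherian X] (hX : ∀ y : X, IsRegularLocalRing (X.presheaf.stalk y)) (t : X') :
    IsRegularLocalRing (X'.presheaf.stalk t) := by
  let Z := (PtBlow.pt hx).subscheme
  haveI : IsReduced Z := DvrDom.isReduced_vanishingIdeal_subscheme _
  have hsub : ∀ z : Z, (PtBlow.pt hx).subschemeι z = x := fun z => by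
    have h : (PtBlow.pt hx).subschemeι z ∈ Set.range (PtBlow.pt hx).subschemeι := ⟨z, rfl⟩
    rw [Scheme.IdealSheafData.range_subschemeι, PtBlow.coe_support_pt hx] at h
    exact h
  haveI : Subsingleton Z := ⟨fun z z' =>
    (PtBlow.pt hx).subschemeι.isClosedEmbedding.injective ((hsub z).trans (hsub z').symm)⟩
  refine RegBlow.regular_of_isBlowUp (PtBlow.pt hx).subschemeι hX (fun z => ?_)
    (by rw [Scheme.IdealSheafData.ker_subschemeι]; exact hb) t
  haveI : Nonempty Z := ⟨z⟩
  haveI : IrreducibleSpace Z :=
    { isPreirreducible_univ := Set.subsingleton_univ.isPreirreducible, toNonempty := ⟨z⟩ }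
  haveI : IsIntegral Z := isIntegral_of_irreducibleSpace_of_isReduced Z
  rw [Subsingleton.elim z (genericPoint Z)]
  exact inferInstanceAs (IsRegularLocalRing Z.functionField)

theorem directAcyclic_blowUp [IsNoetherian X] :
    DirectAcyclic (Opens.grothendieckTopology X) (Opens.map b.base) (Coh.toAb (Coh.structureModule X')) := by
  haveI := PtBlow.isProper_blowUp hx hb
  obtain ⟨W, -, hxW, -, -, -, a, c, hG⟩ := PtBlow.exists_goodNbhd x hx.closed hx.reg hx.dim ⊤ trivial
  refine CohFinite.directAcyclic_of_hu_vanish b _ (Groth.Agent.QC.isQCoh_unit X')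
    (fun V : {V : X.affineOpens // V = W ∨ x ∉ V.1} => V.1.1) (fun V => V.1.2) (fun s => ?_) ?_
  · by_cases hs : s = x
    · exact ⟨⟨W, Or.inl rfl⟩, hs ▸ hxW⟩
    · obtain ⟨V, hV, hsV, hle⟩ := exists_isAffineOpen_mem_and_subset (x := s)
        (U := ⟨{x}ᶜ, hx.closed.isOpen_compl⟩) hs
      exact ⟨⟨⟨V, hV⟩, Or.inr fun h => hle h rfl⟩, hsV⟩
  · rintro ⟨V, rfl | hV⟩ q
    · exact hu_vanish_good hx hb V hG.span q
    · haveI : (Coh.structureModule X').IsQuasicoherent := Groth.Agent.QC.isQCoh_unit _
      exact CohQC.isAffineOpen_hu_vanish _ (isAffineOpen_preimage hx hb V.2 hV) (by omega)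

omit hb

theorem isNormal_of_regular (hX : ∀ y : X, IsRegularLocalRing (X.presheaf.stalk y)) : Pi1.IsNormalScheme X :=
  fun y => by
    haveI := hX y
    haveI : IsDomain (X.presheaf.stalk y) := RegLoc.isDomain _
    haveI := UFDLib.ufd_of_isRegularLocalRing (X.presheaf.stalk y)
    exact ⟨inferInstance, inferInstance⟩

/-- The structure module is the direct image of the structure module. -/
theorem nonempty_push_structure {X Y : Scheme.{u}} (f : X ⟶ Y) (h : ∀ W : Y.Opens, Function.Bijective (f.app W)) :
    Nonempty ((Scheme.Modules.pushforward f).obj (Coh.structureModule X) ≅ Coh.structureModule Y) := by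
  let ψ : Coh.structureModule Y ⟶ (Scheme.Modules.pushforward f).obj (Coh.structureModule X) :=
    SheafOfModules.unitToPushforwardObjUnit f.toRingCatSheafHom
  haveI : IsIso ψ := RelTilde.isIso_of_bijective_near _ fun y => ⟨⊤, trivial, fun V _ => h V⟩
  exact ⟨(asIso ψ).symm⟩

end Groth.Agent.PtPush
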