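import Groth.Agent.PtPush.InterNum
import Groth.Agent.W7Cech.UnitIso
import Groth.Agent.Nakai.CartierMul
import Groth.Agent.Nakai.PullIdeal
import Groth.Agent.Nakai.CurveConfig
import Groth.Agent.SiteCoh.ClosedPush
import Groth.Agent.S8914
import Groth.Agent.ExtShX.Global

/-!
Euler characteristics of ideal sheaves of strict transforms under a point blow-up.
-/

set_option autoImplicit false
set_option backward.isDefEq.respectTransparency false
set_option backward.isDefEq.respectTransparency.types false
set_option linter.style.haveILetI false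
set_option linter.unusedSectionVars false

universe u

open CategoryTheory CategoryTheory.Limits AlgebraicGeometry TopologicalSpace

noncomputable section

namespace Groth.Agent.PtPush

variable (k : Type u) [Field k]

section General

variable {Y : Scheme.{u}} [Y.Over (Spec (CommRingCat.of k))] [IsProper (Y ↘ Spec (CommRingCat.of k))]
  (hd : topologicalKrullDim Y ≤ (2 : ℕ))

include hd

theorem euler_tensor (A B : Y.Modules) :
    Curv2.euler k Y (CohB1.tensorMod A B) = FGA.intNum k Y 2 ![A, B] (Coh.structureModule Y) -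
      Curv2.euler k Y (Coh.structureModule Y) + Curv2.euler k Y A + Curv2.euler k Y B := by
  have h : (Curv2.euler k Y (CohB1.tensorMod A B) : ℚ) = (FGA.intNum k Y 2 ![A, B] (Coh.structureModule Y) : ℚ) -
      Curv2.euler k Y (Coh.structureModule Y) + Curv2.euler k Y A + Curv2.euler k Y B := by
    rw [Intersect.intNum_eq_alt k 2 hd, Intersect.alt_vec₂,
      CurveRR.euler_eq_of_iso (k := k) (PicGrp.tensorModIso (TMul.leftUnitIso A) (Iso.refl B)),
      CurveRR.euler_eq_of_iso (k := k) (TMul.leftUnitIso A), CurveRR.euler_eq_of_iso (k := k) (TMul.leftUnitIso B)]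
    ring
  exact_mod_cast h

theorem intNum_tensor_left (A B C : Y.Modules) (hA : PicF.IsInvertible A) (hB : PicF.IsInvertible B)
    (hC : PicF.IsInvertible C) :
    FGA.intNum k Y 2 ![CohB1.tensorMod A B, C] (Coh.structureModule Y) =
      FGA.intNum k Y 2 ![A, C] (Coh.structureModule Y) + FGA.intNum k Y 2 ![B, C] (Coh.structureModule Y) := by
  haveI := CurveRR.isNoetherian_of_proper k Y
  exact Intersect.intNum_additive k 2 hd (fun i => by fin_cases i; exact hC) hA hB RefStalk.isCoh_structureModule
    (by rw [Intersect.dim_support_structure]; exact hd)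

theorem intNum_congr_left {A A' : Y.Modules} (e : A ≅ A') (C : Y.Modules) :
    FGA.intNum k Y 2 ![A, C] (Coh.structureModule Y) = FGA.intNum k Y 2 ![A', C] (Coh.structureModule Y) := by
  have h := euler_tensor k hd A C
  have h' := euler_tensor k hd A' C
  rw [CurveRR.euler_eq_of_iso (k := k) (PicGrp.tensorModIso e (Iso.refl C)), CurveRR.euler_eq_of_iso (k := k) e] at h
  omega

end General

variable {X X' : Scheme.{u}} {x : X} (hx : PtBlow.IsRegPt X x) {b : X' ⟶ X}
  [X.Over (Spec (CommRingCat.of k))] [X'.Over (Spec (CommRingCat.of k))] [IsProper (X ↘ Spec (CommRingCat.of k))]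
  (hover : b ≫ (X ↘ Spec (CommRingCat.of k)) = X' ↘ Spec (CommRingCat.of k))
  (hX : ∀ y : X, IsRegularLocalRing (X.presheaf.stalk y)) (hb : BlowUp.IsBlowUp b (PtBlow.pt hx))

include hx hover hX hb

/-- Pull-back does not change Euler characteristics of invertible modules. -/
theorem euler_pullback_blowUp {L : X.Modules} (hL : PicF.IsInvertible L) :
    Curv2.euler k X' ((Scheme.Modules.pullback b).obj L) = Curv2.euler k X L := by
  haveI := CurveRR.isNoetherian_of_proper k X
  obtain ⟨h0⟩ := nonempty_push_iso hx hX hb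
  let N := (Scheme.Modules.pullback b).obj L
  have hloc : ∀ y : X, ∃ V : X.Opens, y ∈ V ∧
      Nonempty (N.restrict (b ⁻¹ᵁ V).ι ≅ (Coh.structureModule X').restrict (b ⁻¹ᵁ V).ι) := fun y => by
    obtain ⟨V, hy, ⟨φ⟩⟩ := hL y
    exact ⟨V, hy, ⟨(DerPerf.pullRestrictIso b V).app L ≪≫ (Scheme.Modules.pullback (b ∣_ V)).mapIso φ ≪≫
      DerPerf.pullUnitIso (b ∣_ V) ≪≫ (Scheme.Modules.restrictUnitIso _).symm⟩⟩
  have hA : SiteCoh.DirectAcyclic (Opens.grothendieckTopology X) (Opens.map b.base) (Coh.toAb N) := fun q =>
    SiteCoh.locKilled_of_isZero (u := Opens.map b.base) (W7Cech.isZero_rpushAb_of_local b hloc (q + 1)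
      (SiteCoh.isZero_rpush_of_locKilled (u := Opens.map b.base) (directAcyclic_blowUp hx hb q)))
  haveI := W7Cech.isIso_unit_of_invertible b h0 hL
  let w : (Scheme.Modules.pushforward b).obj N ≅ L :=
    (asIso ((Scheme.Modules.pullbackPushforwardAdjunction b).unit.app L)).symm
  refine finsum_congr fun n => ?_
  obtain ⟨e⟩ := CohFinite.hh_push_linear k b hover N hA n
  rw [(e.trans (ExtShX.hhIso (A := k) w n)).finrank_eq]

variable (hd : topologicalKrullDim X ≤ (2 : ℕ)) (hd' : topologicalKrullDim X' ≤ (2 : ℕ))
include hd hd'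

omit hX hd hd' in
/-- The Euler characteristic of the exceptional line. -/
theorem euler_exceptional :
    letI : Algebra k (X.residueField x) := Curv2.resAlgebra k X x
    Curv2.euler k X' (Coh.structureModule X') -
        Curv2.euler k X' (ClSub.idealMod (BlowUp.exceptional b (PtBlow.pt hx))) =
      (Module.finrank k (X.residueField x) : ℤ) := by
  haveI := CurveRR.isNoetherian_of_proper k X
  haveI := PtBlow.isProper_blowUp hx hb
  haveI : IsProper (X' ↘ Spec (CommRingCat.of k)) := by rw [← hover]; infer_instance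
  haveI := CurveRR.isNoetherian_of_proper k X'
  obtain ⟨K, _, ι, i, hι, hic, hi, hker, hιb, -⟩ := exists_line_data hx hb
  let α : k →+* K := (Spec.preimage (i ≫ (X ↘ Spec (CommRingCat.of k)))).hom
  letI := α.toAlgebra
  have hα : i ≫ (X ↘ Spec (CommRingCat.of k)) = Spec.map (CommRingCat.ofHom (algebraMap k K)) :=
    (Spec.map_preimage _).symm
  rw [finrank_residueField k K i hα hi, show BlowUp.exceptional b (PtBlow.pt hx) = ι.ker from hker.symm]
  obtain ⟨hIc, hQc⟩ := CurveRR.isCoh_idealMod ι.ker
  have h2 := CurveRR.euler_add (k := k) (CurveRR.ideal_shortExact ι.ker) hIc RefStalk.isCoh_structureModule hQc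
  change Curv2.euler k X' (Coh.structureModule X') = Curv2.euler k X' (ClSub.idealMod ι.ker) +
    Curv2.euler k X' (ClSub.quotMod ι.ker) at h2
  have h1 : Curv2.euler k X' (ClSub.quotMod ι.ker) = (Module.finrank k K : ℤ) := by
    have h := Intersect.euler_quot_twist k ι (TMul.isInvertible_structureModule (X := X'))
    rw [CurveRR.euler_eq_of_iso (k := k) (SecTwist.unitorR (ClSub.quotMod ι.ker))] at h
    rw [h, show (ι ≫ (X' ↘ Spec (CommRingCat.of k))) =
      CohB1.ProjSpace.toSpec 1 K ≫ Spec.map (CommRingCat.ofHom (algebraMap k K)) by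
        rw [← hα, ← hover, ← Category.assoc, hιb, Category.assoc], euler_tower k K]
    letI : (CohB1.ProjSpace 1 K).Over (Spec (CommRingCat.of K)) := ⟨CohB1.ProjSpace.toSpec 1 K⟩
    rw [CurveRR.euler_eq_of_iso (k := K) (PicLoc.pullbackStructureIso ι), euler_structure_line, mul_one]
  omega

/-- The ideal of the total transform against that of the strict transform. -/
theorem euler_strictTransform {I : X.IdealSheafData} (hI : BlowUp.IsEffCartierIdeal I) {J : X'.IdealSheafData}
    (hJ : BlowUp.IsEffCartierIdeal J) (m : ℕ)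
    (h : I.comap b = J * (BlowUp.exceptional b (PtBlow.pt hx)) ^ m) :
    letI : Algebra k (X.residueField x) := Curv2.resAlgebra k X x
    2 * Curv2.euler k X (ClSub.idealMod I) = 2 * Curv2.euler k X' (ClSub.idealMod J) +
      (Module.finrank k (X.residueField x) : ℤ) * ((m : ℤ) * ((m : ℤ) - 1)) := by
  letI : Algebra k (X.residueField x) := Curv2.resAlgebra k X x
  haveI := CurveRR.isNoetherian_of_proper k X
  haveI := PtBlow.isProper_blowUp hx hb
  haveI : IsProper (X' ↘ Spec (CommRingCat.of k)) := by rw [← hover]; infer_instance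
  have hIi := (Groth.Agent.S8914.result I).2 hI
  let E := BlowUp.exceptional b (PtBlow.pt hx)
  have hE : BlowUp.IsEffCartierIdeal E := hb.1
  let e := ClSub.idealMod E
  have hei : PicF.IsInvertible e := (Groth.Agent.S8914.result E).2 hE
  let d : ℤ := (Module.finrank k (X.residueField x) : ℤ)
  have hχ : Curv2.euler k X' (Coh.structureModule X') - Curv2.euler k X' e = d := euler_exceptional k hx hover hb
  obtain ⟨-, hLe, hee⟩ := intNum_blowUp hx k hover hX hb hd hd' _ _ hIi hIi
  have hcart : ∀ (n : ℕ) (A : X'.IdealSheafData), BlowUp.IsEffCartierIdeal A → BlowUp.IsEffCartierIdeal (A * E ^ n) := by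
    intro n
    induction n with
    | zero => intro A hA; rwa [pow_zero, mul_one]
    | succ n ih => intro A hA; rw [pow_succ', ← mul_assoc]; exact ih _ (BlowUpLib.cartier_mul hA hE)
  have step : ∀ A : X'.IdealSheafData, BlowUp.IsEffCartierIdeal A →
      FGA.intNum k X' 2 ![ClSub.idealMod (A * E), e] (Coh.structureModule X') =
          FGA.intNum k X' 2 ![ClSub.idealMod A, e] (Coh.structureModule X') - d ∧
        Curv2.euler k X' (ClSub.idealMod (A * E)) = Curv2.euler k X' (ClSub.idealMod A) +
          FGA.intNum k X' 2 ![ClSub.idealMod A, e] (Coh.structureModule X') - d := by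
    intro A hA
    obtain ⟨φ⟩ := Nakai.nonempty_idealMod_mul hA hE
    refine ⟨?_, ?_⟩
    · rw [← intNum_congr_left k hd' φ e, intNum_tensor_left k hd' _ _ _ ((Groth.Agent.S8914.result A).2 hA) hei hei, hee]
      rfl
    · rw [← CurveRR.euler_eq_of_iso (k := k) φ, euler_tensor k hd']
      linarith [hχ]
  have deg : ∀ (n : ℕ) (A : X'.IdealSheafData), BlowUp.IsEffCartierIdeal A →
      FGA.intNum k X' 2 ![ClSub.idealMod (A * E ^ n), e] (Coh.structureModule X') =
        FGA.intNum k X' 2 ![ClSub.idealMod A, e] (Coh.structureModule X') - n * d := by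
    intro n
    induction n with
    | zero => intro A _; rw [pow_zero, mul_one]; simp
    | succ n ih =>
      intro A hA
      rw [pow_succ', ← mul_assoc, ih _ (BlowUpLib.cartier_mul hA hE), (step A hA).1]
      push_cast
      ring
  have main : ∀ (n : ℕ) (A : X'.IdealSheafData), BlowUp.IsEffCartierIdeal A →
      FGA.intNum k X' 2 ![ClSub.idealMod (A * E ^ n), e] (Coh.structureModule X') = 0 →
      2 * Curv2.euler k X' (ClSub.idealMod (A * E ^ n)) =
        2 * Curv2.euler k X' (ClSub.idealMod A) + d * ((n : ℤ) * ((n : ℤ) - 1)) := by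
    intro n
    induction n with
    | zero => intro A _ _; rw [pow_zero, mul_one]; simp
    | succ n ih =>
      intro A hA h0
      have hA' := BlowUpLib.cartier_mul hA hE
      have h2 := deg (n + 1) A hA
      rw [h0] at h2
      rw [pow_succ', ← mul_assoc] at h0 ⊢
      rw [ih _ hA' h0, (step A hA).2]
      push_cast at h2 ⊢
      linear_combination (-2 : ℤ) * h2
  have hJE := hcart m J hJ
  have hcb : BlowUp.IsEffCartierIdeal (I.comap b) := h ▸ hJE
  obtain ⟨θ⟩ := Nakai.nonempty_pullback_idealMod b hI hcb
  rw [h] at θ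
  have h0 : FGA.intNum k X' 2 ![ClSub.idealMod (J * E ^ m), e] (Coh.structureModule X') = 0 := by
    rw [← intNum_congr_left k hd' θ e]; exact hLe
  rw [← euler_pullback_blowUp k hx hover hX hb hIi, CurveRR.euler_eq_of_iso (k := k) θ]
  exact main m J hJ h0

end Groth.Agent.PtPush
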