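import Groth.Agent.PtBlow.Contraction
import Groth.Agent.PtBlow.Decomp
import Groth.Agent.PtPush.Tower
import Groth.Agent.PtPush.Line
import Groth.Agent.SpCartier.AffineCompl
import Groth.Agent.AlmostBlow.Basic
import Groth.Agent.RatBlow.Modif
import Groth.Agent.ThickSys.Sheaf
import Groth.Agent.S1684
import Groth.Agent.S2821
import Groth.Agent.S10829
import Groth.Agent.BlowUpLib.Cartier
import Groth.Agent.Horrocks.Dim

/-!
The total transform of a curve under a point blow-up: strict transform times a power of the exceptional ideal.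
-/

set_option autoImplicit false
set_option backward.isDefEq.respectTransparency false
set_option backward.isDefEq.respectTransparency.types false
set_option linter.style.haveILetI false
set_option linter.unusedSectionVars false

universe u

open CategoryTheory CategoryTheory.Limits AlgebraicGeometry TopologicalSpace Polynomial

noncomputable section

namespace Groth.Agent.PtPush

/-- The chart of a blow-up sees the powers of the centre. -/
theorem mem_pow_of_chart {A : Type u} [CommRing A] {m : Ideal A} {u v : A} {R : Type u} [CommRing R]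
    [Algebra A R] {τ : R} (hG : PtBlow.Good m u v) (hC : PtBlow.Chart u v R τ) (a : A) :
    ∀ n : ℕ, algebraMap A R a ∈ Ideal.span {algebraMap A R u ^ n} → a ∈ m ^ n := by
  intro n
  induction n with
  | zero => intro _; simp
  | succ n ih =>
    intro h
    have hn : a ∈ m ^ n := ih (by
      obtain ⟨r, hr⟩ := Ideal.mem_span_singleton.1 h
      exact Ideal.mem_span_singleton.2 ⟨algebraMap A R u * r, by rw [hr, pow_succ]; ring⟩)
    obtain ⟨p, hp, rfl⟩ := PtBlow.exists_hom hG.span n hn
    obtain ⟨r, hr⟩ := Ideal.mem_span_singleton.1 h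
    have hα : aeval τ p ∈ Ideal.span {algebraMap A R u} := by
      refine Ideal.mem_span_singleton.2 ⟨r, ?_⟩
      refine (mul_cancel_left_mem_nonZeroDivisors (pow_mem hC.nzd n)).1 ?_
      rw [← hC.map_hom hp, hr, pow_succ, mul_assoc]
    rw [PtBlow.hom]
    refine Ideal.sum_mem _ fun j hj => ?_
    have hj' : j ≤ n := Nat.lt_succ_iff.1 (Finset.mem_range.1 hj)
    have h1 := Ideal.mul_mem_mul (Ideal.pow_mem_pow hG.right_mem j) (Ideal.pow_mem_pow hG.left_mem (n - j))
    rw [← pow_add, Nat.add_sub_cancel' hj'] at h1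
    rw [mul_assoc, pow_succ']
    exact Ideal.mul_mem_mul (hC.coeff_mem hG hα j) h1

/-- Division by an effective Cartier ideal containing a given ideal. -/
theorem exists_mul_of_le {Y : Scheme.{u}} [IsLocallyNoetherian Y] {A K : Y.IdealSheafData}
    (hK : BlowUp.IsEffCartierIdeal K) (h : A ≤ K) :
    ∃ J : Y.IdealSheafData, A = J * K ∧ ∀ V : Y.affineOpens, A.ideal V = K.ideal V → J.ideal V = ⊤ := by
  have hfg : ∀ U : Y.affineOpens, (K.ideal U).FG := fun U => by
    haveI := IsLocallyNoetherian.component_noetherian U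
    exact IsNoetherian.noetherian _
  refine ⟨PtBlow.colon A K hfg, ?_, fun V hV => ?_⟩
  · choose V hxV c hc he using hK
    refine Scheme.IdealSheafData.ext_of_iSup_eq_top V
      (eq_top_iff.2 fun x _ => Opens.mem_iSup.2 ⟨x, hxV x⟩) fun x => ?_
    rw [Scheme.IdealSheafData.ideal_mul, Pi.mul_apply, he x]
    refine le_antisymm (fun r hr => ?_) ?_
    · obtain ⟨d, rfl⟩ := Ideal.mem_span_singleton.1 (he x ▸ h (V x) hr)
      rw [mul_comm (c x) d]
      refine Ideal.mul_mem_mul ((PtBlow.mem_colon _ _).2 fun l hl => ?_) (Ideal.mem_span_singleton_self _)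
      obtain ⟨e, rfl⟩ := Ideal.mem_span_singleton.1 (he x ▸ hl)
      rw [← mul_assoc, mul_comm d]
      exact Ideal.mul_mem_right _ _ hr
    · rw [Ideal.mul_le]
      intro r hr l hl
      exact (PtBlow.mem_colon _ _).1 hr l (he x ▸ hl)
  · rw [Ideal.eq_top_iff_one]
    exact (PtBlow.mem_colon _ _).2 fun l hl => by rw [one_mul, hV]; exact hl

/-- A nonempty effective Cartier divisor contains a proper generisation of each of its closed points of
codimension two. -/
theorem exists_generization {Y : Scheme.{u}} [IsLocallyNoetherian Y] {L : Y.IdealSheafData}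
    (hL : BlowUp.IsEffCartierIdeal L) {P : Y} (hP : P ∈ L.support)
    (hd : ((2 : ℕ) : WithBot ℕ∞) ≤ ringKrullDim (Y.presheaf.stalk P)) :
    ∃ y : Y, y ⤳ P ∧ y ≠ P ∧ y ∈ L.support := by
  obtain ⟨U, hPU, c, -, he⟩ := hL P
  let f := (Y.presheaf.germ U.1 P hPU).hom c
  have hf : ¬ IsUnit f := fun h =>
    (BlowUpLib.mem_basicOpen_of_notMem_support he hPU).2 ((Y.mem_basicOpen c P hPU).2 h) hP
  obtain ⟨p, hp⟩ := Ideal.nonempty_minimalPrimes (I := Ideal.span {f})
    (by rwa [ne_eq, Ideal.span_singleton_eq_top])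
  haveI := hp.1.1
  haveI : (Ideal.span {f}).IsPrincipal := ⟨⟨f, rfl⟩⟩
  have h1 : p.height ≤ 1 := Ideal.height_le_one_of_isPrincipal_of_mem_minimalPrimes _ p hp
  have hne : p ≠ IsLocalRing.maximalIdeal (Y.presheaf.stalk P) := fun h => by
    rw [h] at h1
    rw [← IsLocalRing.maximalIdeal_height_eq_ringKrullDim] at hd
    have h2 : ((2 : ℕ) : ℕ∞) ≤ (IsLocalRing.maximalIdeal (Y.presheaf.stalk P)).height := WithBot.coe_le_coe.mp hd
    have : ((2 : ℕ) : ℕ∞) ≤ 1 := h2.trans h1
    norm_num at this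
  let q : PrimeSpectrum (Y.presheaf.stalk P) := ⟨p, inferInstance⟩
  let y := Y.fromSpecStalk P q
  have hy : y ⤳ P := by
    have : y ∈ Set.range (Y.fromSpecStalk P) := ⟨q, rfl⟩
    rwa [Scheme.range_fromSpecStalk] at this
  refine ⟨y, hy, fun h => hne ?_, ?_⟩
  · exact congrArg PrimeSpectrum.asIdeal
      ((Y.fromSpecStalk P).isEmbedding.injective (h.trans Scheme.fromSpecStalk_closedPoint.symm))
  · have hyU : y ∈ U.1 := hy.mem_open U.1.2 hPU
    by_contra hns
    have hb : y ∈ Y.basicOpen c := (BlowUpLib.mem_basicOpen_of_notMem_support he hyU).1 hns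
    exact (Groth.Agent.S5093.fromSpecStalk_mem_basicOpen_iff P U.1 hPU c q).1 hb
      (hp.1.2 (Ideal.mem_span_singleton_self f))

variable {X X' : Scheme.{u}} {x : X} (hx : PtBlow.IsRegPt X x) {b : X' ⟶ X}
  (hb : BlowUp.IsBlowUp b (PtBlow.pt hx))

include hx hb

/-- A power of the exceptional ideal contains an inverse image only if the power of the point does. -/
theorem le_pow_of_comap_le [IsNoetherian X] (I : X.IdealSheafData) (n : ℕ)
    (h : I.comap b ≤ (BlowUp.exceptional b (PtBlow.pt hx)) ^ n) : I ≤ (PtBlow.pt hx) ^ n := by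
  obtain ⟨W, -, hxW, hdom, -, hmax, a₀, a₁, hG⟩ :=
    PtBlow.exists_goodNbhd x hx.closed hx.reg hx.dim ⊤ trivial
  haveI := hmax
  obtain ⟨G₀, G₁, hG₀, hG₁, hcov, hc₀, hc₁⟩ :=
    PtBlow.exists_charts hb W hG.span (hG.left_ne_zero hmax.ne_top) (hG.symm.left_ne_zero hmax.ne_top)
  have hW : I.ideal W ≤ ((PtBlow.pt hx).ideal W) ^ n := by
    intro a ha
    letI := (b.appLE W.1 G₀.1 hG₀).hom.toAlgebra
    obtain ⟨τ, hC⟩ := hc₀
    refine mem_pow_of_chart hG hC a n ?_
    have h1 := h G₀
    rw [Scheme.IdealSheafData.ideal_pow, Pi.pow_apply, FpqcDescent.ideal_comap_appLE I b W G₀ hG₀,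
      show (BlowUp.exceptional b (PtBlow.pt hx)) = (PtBlow.pt hx).comap b from rfl,
      FpqcDescent.ideal_comap_appLE (PtBlow.pt hx) b W G₀ hG₀] at h1
    have h2 := h1 (Ideal.mem_map_of_mem _ ha)
    rw [show (b.appLE W.1 G₀.1 hG₀).hom = algebraMap Γ(X, W.1) Γ(X', G₀.1) from rfl] at h2
    rwa [hC.map_eq hG, Ideal.span_singleton_pow] at h2
  suffices I ⊔ (PtBlow.pt hx) ^ n = (PtBlow.pt hx) ^ n from this ▸ le_sup_left
  have hV : ∀ y : X, ∃ V : X.affineOpens, y ∈ V.1 ∧ I.ideal V ≤ ((PtBlow.pt hx) ^ n).ideal V := fun y => by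
    by_cases hy : y = x
    · exact ⟨W, hy ▸ hxW, by rw [Scheme.IdealSheafData.ideal_pow, Pi.pow_apply]; exact hW⟩
    · obtain ⟨V, hV, hyV, hVle⟩ := exists_isAffineOpen_mem_and_subset (x := y)
        (U := ⟨{x}ᶜ, hx.closed.isOpen_compl⟩) hy
      refine ⟨⟨V, hV⟩, hyV, le_top.trans_eq ?_⟩
      rw [Scheme.IdealSheafData.ideal_pow, Pi.pow_apply, PtBlow.ideal_eq_top (I := PtBlow.pt hx) fun z hz hzx => ?_,
        Ideal.top_pow]
      have h' : z ∈ ((PtBlow.pt hx).support : Set X) := hzx
      rw [PtBlow.coe_support_pt hx] at h'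
      exact hVle hz h'
  choose V hyV hVle using hV
  refine Scheme.IdealSheafData.ext_of_iSup_eq_top V (eq_top_iff.2 fun y _ => Opens.mem_iSup.2 ⟨y, hyV y⟩) fun y => ?_
  rw [Scheme.IdealSheafData.ideal_sup, Pi.sup_apply]
  exact sup_eq_right.2 (hVle y)

/-- The total transform of an integral curve. -/
theorem comap_eq_strictTransform [IsNoetherian X] [IsIntegral X]
    (hX : ∀ y : X, IsRegularLocalRing (X.presheaf.stalk y))
    (hdimP : ∀ P : X', IsClosed ({P} : Set X') → ringKrullDim (X'.presheaf.stalk P) = 2)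
    {C : Scheme.{u}} [IsIntegral C] (j : C ⟶ X) [IsClosedImmersion j] (hj : BlowUp.IsEffCartierIdeal j.ker)
    (hjx : j (genericPoint C) ≠ x) (hCdim : ringKrullDim (X.presheaf.stalk (j (genericPoint C))) = 1)
    {C' : Scheme.{u}} [IsIntegral C'] (j' : C' ⟶ X') [IsClosedImmersion j']
    (hgen : b (j' (genericPoint C')) = j (genericPoint C)) {m : ℕ}
    (hm : j.ker ≤ (PtBlow.pt hx) ^ m) (hm' : ¬ j.ker ≤ (PtBlow.pt hx) ^ (m + 1)) :
    BlowUp.IsEffCartierIdeal j'.ker ∧ j.ker.comap b = j'.ker * (BlowUp.exceptional b (PtBlow.pt hx)) ^ m := by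
  haveI := PtBlow.isProper_blowUp hx hb
  haveI := PtBlow.isNoetherian_blowUp hx hb
  haveI := isIntegral_blowUp hx hb
  obtain ⟨K', _, ι, i, hι, -, hi, hker, hιb, -⟩ := exists_line_data hx hb
  let E := BlowUp.exceptional b (PtBlow.pt hx)
  have hE : BlowUp.IsEffCartierIdeal E := hb.1
  have hcpow : ∀ n : ℕ, BlowUp.IsEffCartierIdeal (E ^ n) := fun n => by
    induction n with
    | zero => rw [pow_zero, Scheme.IdealSheafData.one_eq_top]; exact BlowUpLib.cartier_top
    | succ n ih => rw [pow_succ]; exact BlowUpLib.cartier_mul ih hE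
  let V : X.Opens := (PtBlow.pt hx).support.compl
  let U' : X'.Opens := b ⁻¹ᵁ V
  haveI hiso : IsIso (b ∣_ V) := BlowUpLib.isIso_restrict hb
  have hnotV : ∀ y : X, y ∈ V ↔ y ≠ x := fun y => by
    show y ∉ ((PtBlow.pt hx).support : Set X) ↔ _
    rw [PtBlow.coe_support_pt hx]; exact Iff.rfl
  have hηU : j' (genericPoint C') ∈ U' := (hnotV _).2 (hgen ▸ hjx)
  -- off the exceptional line
  have hset : ∀ z : X', z ∈ U' → (b z ∈ Set.range j ↔ z ∈ Set.range j') := fun z hz => by
    constructor
    · rintro ⟨c, hc⟩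
      have h1 : b (j' (genericPoint C')) ⤳ b z := hgen ▸ hc ▸ (genericPoint_specializes c).map j.continuous
      have h2 : (⟨_, hηU⟩ : U') ⤳ ⟨z, hz⟩ := by
        refine (b ∣_ V).homeomorph.isEmbedding.isInducing.specializes_iff.1 ?_
        refine Topology.IsInducing.subtypeVal.specializes_iff.1 ?_
        rwa [show ((b ∣_ V).homeomorph (⟨_, hηU⟩ : U')).1 = b (j' (genericPoint C')) from morphismRestrict_base_coe b V _,
          show ((b ∣_ V).homeomorph (⟨z, hz⟩ : U')).1 = b z from morphismRestrict_base_coe b V _]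
      exact (h2.map continuous_subtype_val).mem_closed j'.isClosedEmbedding.isClosed_range ⟨_, rfl⟩
    · rintro ⟨c, rfl⟩
      exact (((genericPoint_specializes c).map j'.continuous).map b.continuous).mem_closed
        j.isClosedEmbedding.isClosed_range ⟨genericPoint C, hgen.symm⟩
  have hoffU : (j.ker.comap b).comap U'.ι = j'.ker.comap U'.ι := by
    let g := (j ∣_ V) ≫ inv (b ∣_ V)
    have hP : IsPullback g (𝟙 _) (b ∣_ V) (j ∣_ V) := IsPullback.of_vert_isIso ⟨by simp [g]⟩
    haveI : IsReduced (j ⁻¹ᵁ V).toScheme := isReduced_of_isOpenImmersion (j ⁻¹ᵁ V).ι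
    haveI : IsReduced (j' ⁻¹ᵁ U').toScheme := isReduced_of_isOpenImmersion (j' ⁻¹ᵁ U').ι
    have e1 : j'.ker.comap U'.ι = (j' ∣_ U').ker :=
      (AlmostBlow.ker_of_isPullback (isPullback_morphismRestrict j' U').flip).symm
    have e2 : j.ker.comap V.ι = (j ∣_ V).ker :=
      (AlmostBlow.ker_of_isPullback (isPullback_morphismRestrict j V).flip).symm
    have e3 : (j.ker.comap b).comap U'.ι = g.ker := by
      rw [← Scheme.IdealSheafData.comap_comp, ← morphismRestrict_ι, Scheme.IdealSheafData.comap_comp, e2]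
      exact (AlmostBlow.ker_of_isPullback hP.flip).symm
    have hsup : g.ker.support = (j' ∣_ U').ker.support := by
      rw [← e3, ← e1]
      refine Closeds.ext (Set.ext fun z => ?_)
      simp only [Scheme.IdealSheafData.support_comap]
      show b (U'.ι z) ∈ (j.ker.support : Set X) ↔ U'.ι z ∈ (j'.ker.support : Set X')
      rw [Scheme.Hom.support_ker, Scheme.Hom.support_ker, j.isClosedEmbedding.isClosed_range.closure_eq,
        j'.isClosedEmbedding.isClosed_range.closure_eq]
      exact hset _ z.2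
    rw [e3, e1, SpCartier.ker_eq_vanishingIdeal g, SpCartier.ker_eq_vanishingIdeal (j' ∣_ U'), hsup]
  have hcI : BlowUp.IsEffCartierIdeal (j.ker.comap b) := by
    refine RatBlow.cartier_comap_dominant b ?_ hj
    exact StrictRat.map_genericPoint' b V ⟨_, W7Fib.genericPoint_notMem_support (pt_ne_bot hx)⟩
  have hle : j.ker.comap b ≤ E ^ m := by
    exact ((Scheme.IdealSheafData.map_gc b).monotone_l hm).trans_eq (ThickSys.comap_pow _ b m)
  obtain ⟨J, hJ, hJ1⟩ := exists_mul_of_le (hcpow m) hle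
  have hJc : BlowUp.IsEffCartierIdeal J := BlowUpLib.cartier_of_mul_left (hJ ▸ hcI)
  have hJE : ¬ J ≤ E := fun h => by
    refine hm' (le_pow_of_comap_le hx hb _ _ ?_)
    rw [hJ, pow_succ']
    intro W
    simp only [Scheme.IdealSheafData.ideal_mul, Pi.mul_apply]
    exact Ideal.mul_mono (h W) le_rfl
  have hJU : ∀ W : X'.affineOpens, W.1 ≤ U' → J.ideal W = j'.ker.ideal W := fun W hW => by
    have hr : W.1 ≤ U'.ι.opensRange := by rwa [Scheme.Opens.opensRange_ι]
    rw [← PtBlow.ideal_eq_of_comap_eq U'.ι hoffU W hr, hJ, Scheme.IdealSheafData.ideal_mul, Pi.mul_apply,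
      Scheme.IdealSheafData.ideal_pow, Pi.pow_apply,
      PtBlow.ideal_eq_top (I := E) fun z hz hzE => (hnotV _).1 (hW hz) ((PtBlow.mem_support_comap_pt b hx).1 hzE),
      Ideal.top_pow, Ideal.mul_top]
  have hηJ : j' (genericPoint C') ∈ J.support := by
    obtain ⟨W, hW, hηW, hWU⟩ := exists_isAffineOpen_mem_and_subset (x := j' (genericPoint C')) (U := U') hηU
    rw [FittLib.mem_support_iff J ⟨W, hW⟩ hηW, hJU ⟨W, hW⟩ hWU, ← FittLib.mem_support_iff j'.ker ⟨W, hW⟩ hηW]
    show _ ∈ (j'.ker.support : Set X')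
    rw [Scheme.Hom.support_ker]
    exact subset_closure ⟨_, rfl⟩
  have hJK : J ≤ j'.ker := by
    rw [SpCartier.ker_eq_vanishingIdeal j', ← Scheme.IdealSheafData.le_support_iff_le_vanishingIdeal]
    show (j'.ker.support : Set X') ⊆ J.support
    rw [Scheme.Hom.support_ker, j'.isClosedEmbedding.isClosed_range.closure_eq]
    rintro _ ⟨c, rfl⟩
    exact ((genericPoint_specializes c).map j'.continuous).mem_closed J.support.isClosed hηJ
  -- the strict transform is principal
  have hKc : BlowUp.IsEffCartierIdeal j'.ker := by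
    haveI : IsIso j'.toImage := inferInstance
    haveI : Nonempty j'.ker.subscheme := ⟨j'.toImage (genericPoint C')⟩
    haveI : IsIntegral j'.ker.subscheme := isIntegral_of_isOpenImmersion (inv j'.toImage)
    refine Groth.Agent.S1684.result X' j'.ker ?_ fun t _ => ?_
    · have e0 : j'.ker.subschemeι (genericPoint j'.ker.subscheme) = j' (genericPoint C') := by
        rw [← StrictRat.map_genericPoint' j'.toImage ⊤ ⟨j'.toImage (genericPoint C'), trivial⟩,
          ← Scheme.Hom.comp_apply]
        exact congrArg (fun φ : C' ⟶ X' => φ (genericPoint C')) j'.toImage_imageι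
      rw [e0]
      have hmem : b (j' (genericPoint C')) ∈ (PtBlow.pt hx).support.compl := hηU
      haveI := BlowUpLib.isIso_stalkMap hb hmem
      have e1 := ringKrullDim_eq_of_ringEquiv (asIso (b.stalkMap (j' (genericPoint C')))).commRingCatIsoToRingEquiv
      rw [← e1, hgen, hCdim]
    · haveI := regular_blowUp hx hb hX t
      exact Groth.Agent.S2821.result _
  obtain ⟨L, hL, hL1⟩ := exists_mul_of_le hKc hJK
  have hLc : BlowUp.IsEffCartierIdeal L := BlowUpLib.cartier_of_mul_left (hL ▸ hJc)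
  have hLE : ∀ z ∈ L.support, b z = x := fun z hz => by
    by_contra hne
    obtain ⟨W, hW, hzW, hWU⟩ := exists_isAffineOpen_mem_and_subset (x := z) (U := U') ((hnotV _).2 hne)
    have h1 := (FittLib.mem_support_iff L ⟨W, hW⟩ hzW).1 hz
    rw [hL1 ⟨W, hW⟩ (hJU ⟨W, hW⟩ hWU), top_le_iff] at h1
    exact Ideal.IsPrime.ne_top inferInstance h1
  have hLtop : L = ⊤ := by
    rw [← Scheme.IdealSheafData.support_eq_bot_iff]
    refine Closeds.ext (Set.eq_empty_of_forall_notMem fun z hz => ?_)
    obtain ⟨P, hzP, hPc⟩ := IsClosed.exists_closed_singleton (isClosed_closure (s := ({z} : Set X')))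
      ⟨z, subset_closure rfl⟩
    have hPL : P ∈ L.support := (specializes_iff_mem_closure.2 hzP).mem_closed L.support.isClosed hz
    obtain ⟨y, hyP, hne, hyL⟩ := exists_generization hLc hPL (hdimP P hPc).ge
    have hyE : y ∈ Set.range ι := by
      have h1 : y ∈ (ι.ker.support : Set X') := by
        rw [hker]; exact (PtBlow.mem_support_comap_pt b hx).2 (hLE y hyL)
      rwa [Scheme.Hom.support_ker, ι.isClosedEmbedding.isClosed_range.closure_eq] at h1
    have hPE : P ∈ Set.range ι := hyP.mem_closed ι.isClosedEmbedding.isClosed_range hyE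
    obtain ⟨c, rfl⟩ := hyE
    obtain ⟨p, rfl⟩ := hPE
    haveI : IsIntegral (CohB1.ProjSpace 1 K') := Horrocks.isIntegral_projSpace
    have hc : c = genericPoint (CohB1.ProjSpace 1 K') := by
      by_contra hgen'
      have hcp : c ⤳ p := ι.isClosedEmbedding.isEmbedding.isInducing.specializes_iff.1 hyP
      have h1 := Order.coheight_add_one_le (GrpField.lt_of_specializes (genericPoint_specializes c) fun e => hgen' e.symm)
      have h2 := Order.coheight_add_one_le (GrpField.lt_of_specializes hcp fun e => hne (congrArg ι e))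
      have h3 := (RegDual.ringKrullDim_stalk_le_topologicalKrullDim p).trans (Groth.Agent.S10829.result K' 1).le
      rw [ringKrullDim_stalk_eq_coheight] at h3
      have h3' : Order.coheight p ≤ 1 := WithBot.coe_le_coe.1 h3
      have h4 : (1 : ℕ∞) ≤ Order.coheight c := le_trans (le_add_self) h1
      have h5 : (2 : ℕ∞) ≤ 1 := le_trans (le_trans (add_le_add h4 le_rfl) h2) h3'
      exact absurd h5 (by decide)
    refine hJE ?_
    refine le_trans ?_ (hker.le)
    rw [SpCartier.ker_eq_vanishingIdeal ι, ← Scheme.IdealSheafData.le_support_iff_le_vanishingIdeal]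
    show (ι.ker.support : Set X') ⊆ J.support
    rw [Scheme.Hom.support_ker, ι.isClosedEmbedding.isClosed_range.closure_eq, hL, Scheme.IdealSheafData.support_mul]
    rintro _ ⟨e, rfl⟩
    exact Or.inl (((hc ▸ genericPoint_specializes e).map ι.continuous).mem_closed L.support.isClosed hyL)
  refine ⟨hKc, ?_⟩
  rw [hJ, hL, hLtop, ← Scheme.IdealSheafData.one_eq_top, one_mul]

end Groth.Agent.PtPush
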