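import Groth.Agent.PtPush.Tower
import Groth.Agent.Intersect.Surface
import Groth.Agent.S14401
import Groth.Agent.TopDegRep.Basic
import Groth.Agent.BlowUpLib.Basic

/-!
Closed points of equidimensional regular proper surfaces, and the dimension of a point blow-up.
-/

set_option autoImplicit false
set_option backward.isDefEq.respectTransparency false
set_option backward.isDefEq.respectTransparency.types false
set_option linter.style.haveILetI false

universe u

open CategoryTheory CategoryTheory.Limits AlgebraicGeometry TopologicalSpace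

noncomputable section

namespace Groth.Agent.PtPush

theorem isDomain_stalk {X : Scheme.{u}} (hX : ∀ y : X, IsRegularLocalRing (X.presheaf.stalk y)) (y : X) :
    IsDomain (X.presheaf.stalk y) := by
  haveI := hX y
  exact RegLoc.isDomain _

variable (k : Type u) [Field k]

/-- The local dimension at a closed point is the dimension of its component. -/
theorem dim_stalk_component {X : Scheme.{u}} [X.Over (Spec (CommRingCat.of k))]
    [IsProper (X ↘ Spec (CommRingCat.of k))] (hX : ∀ y : X, IsDomain (X.presheaf.stalk y))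
    {Z : Set X} (hZ : Z ∈ irreducibleComponents (X : Type u)) {P : X} (hPZ : P ∈ Z) (hP : IsClosed ({P} : Set X)) :
    ringKrullDim (X.presheaf.stalk P) = topologicalKrullDim Z := by
  haveI := CurveRR.isNoetherian_of_proper k X
  let U : X.Opens := ⟨Z, (Groth.Agent.S14401.result X hX).1 Z hZ⟩
  haveI : IrreducibleSpace U.toScheme := { isPreirreducible_univ := (Subtype.irreducibleSpace hZ.1).isPreirreducible_univ, toNonempty := ⟨⟨P, hPZ⟩⟩ }
  haveI : ∀ z : U.toScheme, IsReduced (Spec (U.toScheme.presheaf.stalk z)) := fun z => by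
    haveI := hX z.1
    haveI : IsDomain (U.toScheme.presheaf.stalk z) :=
      (U.stalkIso z).commRingCatIsoToRingEquiv.toMulEquiv.isDomain
    infer_instance
  haveI : ∀ z : U.toScheme, _root_.IsReduced (U.toScheme.presheaf.stalk z) := fun z => by
    haveI := hX z.1
    haveI : IsDomain (U.toScheme.presheaf.stalk z) :=
      (U.stalkIso z).commRingCatIsoToRingEquiv.toMulEquiv.isDomain
    infer_instance
  haveI : IsReduced U.toScheme := isReduced_of_isReduced_stalk U.toScheme
  haveI : IsIntegral U.toScheme := isIntegral_of_irreducibleSpace_of_isReduced U.toScheme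
  haveI : IsClosedImmersion U.ι := IsClosedImmersion.of_isPreimmersion U.ι (by
    rw [Scheme.Opens.range_ι]; exact isClosed_of_mem_irreducibleComponents _ hZ)
  letI : U.toScheme.Over (Spec (CommRingCat.of k)) := ⟨U.ι ≫ (X ↘ Spec (CommRingCat.of k))⟩
  haveI : IsProper (U.toScheme ↘ Spec (CommRingCat.of k)) := inferInstanceAs (IsProper (U.ι ≫ _))
  have hP' : IsClosed ({(⟨P, hPZ⟩ : U)} : Set U) := by
    have : ({(⟨P, hPZ⟩ : U)} : Set U) = Subtype.val ⁻¹' {P} := Set.ext fun z => Subtype.ext_iff
    exact this ▸ hP.preimage continuous_subtype_val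
  refine (ringKrullDim_eq_of_ringEquiv (U.stalkIso ⟨P, hPZ⟩).commRingCatIsoToRingEquiv).symm.trans ?_
  exact Intersect.dim_stalk_closed k (X := U.toScheme) hP'

theorem isRegPt_of_closed {X : Scheme.{u}} [X.Over (Spec (CommRingCat.of k))]
    [IsProper (X ↘ Spec (CommRingCat.of k))]
    (hdim : ∀ Z ∈ irreducibleComponents (X : Type u), topologicalKrullDim Z = 2)
    (hX : ∀ y : X, IsRegularLocalRing (X.presheaf.stalk y)) {P : X} (hP : IsClosed ({P} : Set X)) :
    PtBlow.IsRegPt X P :=
  ⟨hP, hX P, (dim_stalk_component k (isDomain_stalk hX) (irreducibleComponent_mem_irreducibleComponents P)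
    mem_irreducibleComponent hP).trans (hdim _ (irreducibleComponent_mem_irreducibleComponents P))⟩

/-- Blowing up points preserves the dimension. -/
theorem dim_blowUp {X X' : Scheme.{u}} [X.Over (Spec (CommRingCat.of k))]
    [IsProper (X ↘ Spec (CommRingCat.of k))]
    (hdim : ∀ Z ∈ irreducibleComponents (X : Type u), topologicalKrullDim Z = 2)
    (hX : ∀ y : X, IsRegularLocalRing (X.presheaf.stalk y))
    {x : X} (hx : PtBlow.IsRegPt X x) {b : X' ⟶ X} (hb : BlowUp.IsBlowUp b (PtBlow.pt hx)) :
    topologicalKrullDim X' ≤ (2 : ℕ) := by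
  haveI := CurveRR.isNoetherian_of_proper k X
  haveI := PtBlow.isProper_blowUp hx hb
  letI : X'.Over (Spec (CommRingCat.of k)) := ⟨b ≫ (X ↘ Spec (CommRingCat.of k))⟩
  haveI : IsProper (X' ↘ Spec (CommRingCat.of k)) := inferInstanceAs (IsProper (b ≫ _))
  haveI := CurveRR.isNoetherian_of_proper k X'
  haveI : JacobsonSpace X' := LocallyOfFiniteType.jacobsonSpace (X' ↘ Spec (CommRingCat.of k))
  have hX' := isDomain_stalk (regular_blowUp hx hb hX)
  have hiso := BlowUpLib.isIso_restrict hb
  let V : X.Opens := (PtBlow.pt hx).support.compl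
  refine TopDegRep.topologicalKrullDim_le_of_components X' 2 fun Z hZ => ?_
  have hZo := (Groth.Agent.S14401.result X' hX').1 Z hZ
  have hZc := isClosed_of_mem_irreducibleComponents _ hZ
  obtain ⟨η, hη⟩ := QuasiSober.sober hZ.1 hZc
  have hηV : η ∈ b ⁻¹ᵁ V := by
    intro h
    refine BlowUpLib.notMem_support_of_maximalPt hb.1 (x := η) (fun y hy => ?_) ?_
    rotate_left
    · rw [Scheme.IdealSheafData.support_comap]
      exact h
    have hyZ : y ∈ Z := hy.mem_open hZo hη.mem
    exact (hy.antisymm (hη.specializes hyZ)).eq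
  obtain ⟨y, ⟨hyZ, hyV⟩, hyc⟩ := nonempty_inter_closedPoints (Z := Z ∩ ((b ⁻¹ᵁ V : X'.Opens) : Set X'))
    ⟨η, hη.mem, hηV⟩ (hZo.inter (b ⁻¹ᵁ V).2).isLocallyClosed
  have hbc : IsClosed ({b y} : Set X) := by
    have := b.isClosedMap _ (show IsClosed ({y} : Set X') from hyc)
    rwa [Set.image_singleton] at this
  haveI : IsIso (b ∣_ V) := hiso
  have e1 := ringKrullDim_eq_of_ringEquiv ((b ⁻¹ᵁ V).stalkIso ⟨y, hyV⟩).commRingCatIsoToRingEquiv
  have e2 := ringKrullDim_eq_of_ringEquiv (V.stalkIso ⟨b y, hyV⟩).commRingCatIsoToRingEquiv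
  have e3 := ringKrullDim_eq_of_ringEquiv (asIso ((b ∣_ V).stalkMap ⟨y, hyV⟩)).commRingCatIsoToRingEquiv
  have key : ∀ w : V.toScheme, w = ⟨b y, hyV⟩ → ringKrullDim (V.toScheme.presheaf.stalk w) = ringKrullDim (X.presheaf.stalk (b y)) := by
    rintro w rfl
    exact e2
  have hwy : (b ∣_ V) ⟨y, hyV⟩ = (⟨b y, hyV⟩ : V) := Subtype.ext (morphismRestrict_base_coe b V _)
  rw [← dim_stalk_component k hX' hZ hyZ hyc, ← e1, ← e3, key _ hwy]
  exact (isRegPt_of_closed k hdim hX hbc).dim

end Groth.Agent.PtPush
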