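import Groth.Agent.Intersect.CurveOnSurface
import Groth.Agent.ConnDiv.Basic
import Groth.Agent.CurveRR.Curve

/-!
The ideal of an integral curve and its genus.
-/

set_option autoImplicit false
set_option backward.isDefEq.respectTransparency false
set_option backward.isDefEq.respectTransparency.types false
set_option linter.style.haveILetI false

universe u

open CategoryTheory CategoryTheory.Limits AlgebraicGeometry TopologicalSpace

noncomputable section

namespace Groth.Agent.PtPush

/-- `χ(I_C) = χ(O) − 1 + g`. -/
theorem euler_ideal_eq_genus (k : Type u) [Field k] [IsAlgClosed k] {X C : Scheme.{u}}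
    [X.Over (Spec (CommRingCat.of k))] [IsProper (X ↘ Spec (CommRingCat.of k))]
    [C.Over (Spec (CommRingCat.of k))] [IsIntegral C] (i : C ⟶ X) [IsClosedImmersion i]
    (hi : i ≫ (X ↘ Spec (CommRingCat.of k)) = (C ↘ Spec (CommRingCat.of k))) (hC : topologicalKrullDim C ≤ 1) :
    Curv2.euler k X (ClSub.idealMod i.ker) =
      Curv2.euler k X (Coh.structureModule X) - 1 + Curv2.genus k C := by
  rename_i inst _ _
  obtain ⟨c⟩ := inst
  subst hi
  letI : C.Over (Spec (CommRingCat.of k)) := ⟨i ≫ (X ↘ Spec (CommRingCat.of k))⟩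
  haveI : IsProper (C ↘ Spec (CommRingCat.of k)) := inferInstanceAs (IsProper (i ≫ _))
  haveI := CurveRR.isNoetherian_of_proper k X
  obtain ⟨hI, hQ⟩ := CurveRR.isCoh_idealMod i.ker
  have h1 := CurveRR.euler_add (k := k) (CurveRR.ideal_shortExact i.ker) hI RefStalk.isCoh_structureModule hQ
  change Curv2.euler k X (Coh.structureModule X) =
      Curv2.euler k X (ClSub.idealMod i.ker) + Curv2.euler k X (ClSub.quotMod i.ker) at h1
  have h2 : Curv2.euler k X (ClSub.quotMod i.ker) = 1 - Curv2.genus k C := by
    rw [← CurveRR.euler_structure (k := k) hC ConnDiv.h0_structure,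
      ← CurveRR.euler_eq_of_iso (SecTwist.unitorR (ClSub.quotMod i.ker)),
      Intersect.euler_quot_twist k i TMul.isInvertible_structureModule,
      CurveRR.euler_eq_of_iso (PicLoc.pullbackStructureIso i)]
  omega

end Groth.Agent.PtPush
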