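import Groth.Agent.BlowReg.H1
import Groth.Agent.RZExt.Consequences
import Groth.Agent.CohQC.Restrict
import Groth.Agent.BlowAmp.Chart
import Groth.Agent.PtBlow.Step
import Groth.Agent.PtBlow.Model
import Groth.Agent.BlowUpExist.Proper

/-!
Blow-up of a point: vanishing of the cohomology of the structure sheaf over the preimages of affines.
-/

set_option autoImplicit false
set_option backward.isDefEq.respectTransparency false
set_option backward.isDefEq.respectTransparency.types false
set_option linter.style.haveILetI false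
set_option linter.unusedSectionVars false

universe u

open CategoryTheory CategoryTheory.Limits AlgebraicGeometry TopologicalSpace
open Groth.Agent.BlowUpExist

noncomputable section

namespace Groth.Agent.PtPush

theorem isIso_restrict_le {X Y : Scheme.{u}} (f : X ⟶ Y) {V V' : Y.Opens} (h : V' ≤ V) (hV : IsIso (f ∣_ V)) :
    IsIso (f ∣_ V') := by
  have h1 : IsIso ((f ∣_ V) ∣_ (V.ι ⁻¹ᵁ V')) := inferInstance
  have h2 := ((MorphismProperty.isomorphisms Scheme.{u}).arrow_mk_iso_iff (morphismRestrictRestrict f V _)).1 h1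
  have e : V.ι ''ᵁ (V.ι ⁻¹ᵁ V') = V' := by
    rw [Scheme.Hom.image_preimage_eq_opensRange_inf, Scheme.Opens.opensRange_ι, inf_eq_right.2 h]
  rw [e] at h2
  exact h2

theorem gg_structure (X : Scheme.{u}) : Curv2.IsGloballyGenerated (Coh.structureModule X) := by
  refine ⟨PUnit.{u + 1}, Sigma.desc fun _ => 𝟙 (Coh.structureModule X), ?_⟩
  refine ⟨fun g h e => ?_⟩
  have := congrArg (fun φ => Sigma.ι (fun _ : PUnit.{u + 1} => Coh.structureModule X) PUnit.unit ≫ φ) e
  simpa using this

/-- A blow-up in an ideal with two generators has no higher cohomology of the structure sheaf. -/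
theorem subsingleton_hh_two {A : Type u} [CommRing A] (a b : A) (I : Ideal A) (hI : I = Ideal.span {a, b})
    {Z : Scheme.{u}} (π : Z ⟶ Spec (CommRingCat.of A)) (hb : BlowUp.IsBlowUp π (sheafOf I)) [IsSeparated π]
    (q : ℕ) : Subsingleton (Coh.HH Z (Coh.structureModule Z) (q + 1)) := by
  haveI : (Coh.structureModule Z).IsQuasicoherent := Groth.Agent.QC.isQCoh_unit _
  cases q with
  | zero => exact BlowReg.subsingleton_h1_blowUp a b I hI π hb _ (gg_structure Z)
  | succ q =>
    haveI : Z.IsSeparated := ⟨by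
      rw [show terminal.from Z = π ≫ terminal.from _ from (terminal.hom_ext _ _)]
      infer_instance⟩
    have h0 := isBlowUp_affine I
    obtain ⟨k, hk, -⟩ := h0.2 _ π hb.1
    obtain ⟨l, hl, -⟩ := hb.2 _ (structMap I) h0.1
    haveI : IsIso k := ⟨l, (hb.2 _ _ hb.1).unique (by rw [Category.assoc, hl, hk]) (Category.id_comp _),
      (h0.2 _ _ h0.1).unique (by rw [Category.assoc, hk, hl]) (Category.id_comp _)⟩
    have haI : a ∈ I := hI ▸ Ideal.subset_span (by simp)
    have hbI : b ∈ I := hI ▸ Ideal.subset_span (by simp)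
    have hgens := KoszBlow.irrelevant_le_gens (I := I) ![a, b] (by rw [hI]; congr 1; simp [Set.pair_comm])
    let ta := tt I a haI
    let tb := tt I b hbI
    have hcov : (⊤ : Z.Opens) ≤ ⨆ i : Fin 2, k ⁻¹ᵁ Proj.basicOpen (Rees.deg (reesAlgebra I)) (![ta, tb] i) := by
      rw [← Scheme.Hom.preimage_iSup, ← k.preimage_top]
      refine k.preimage_mono ((Proj.iSup_basicOpen_eq_top (Rees.deg (reesAlgebra I)) _ hgens).ge.trans
        (iSup_le fun j => ?_))
      fin_cases j
      · exact le_iSup (fun i : Fin 2 => Proj.basicOpen (Rees.deg (reesAlgebra I)) (![ta, tb] i)) 0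
      · exact le_iSup (fun i : Fin 2 => Proj.basicOpen (Rees.deg (reesAlgebra I)) (![ta, tb] i)) 1
    have hWi : ∀ i : Fin 2, IsAffineOpen (k ⁻¹ᵁ Proj.basicOpen (Rees.deg (reesAlgebra I)) (![ta, tb] i)) := fun i => by
      fin_cases i
      · exact (Proj.isAffineOpen_basicOpen _ ta (tt_mem I a haI) one_pos).preimage_of_isIso k
      · exact (Proj.isAffineOpen_basicOpen _ tb (tt_mem I b hbI) one_pos).preimage_of_isIso k
    have h := CohQC.hu_iSup_vanish (Coh.toAb (Coh.structureModule Z)) {U : Z.Opens | IsAffineOpen U}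
      (fun V hV W hW => IsAffineOpen.inf hV hW)
      (fun V hV n => CohQC.isAffineOpen_hu_vanish (Coh.structureModule Z) hV (by omega)) 2 _ hWi (q + 1 + 1) (by omega)
    rw [eq_top_iff.2 hcov] at h
    haveI := h
    exact (SiteCoh.huTerminalEquiv (Opens.grothendieckTopology Z) isTerminalTop
      (Coh.toAb (Coh.structureModule Z)) (q + 1 + 1)).toEquiv.subsingleton

variable {X X' : Scheme.{u}} {x : X} (hx : PtBlow.IsRegPt X x) {b : X' ⟶ X}
  (hb : BlowUp.IsBlowUp b (PtBlow.pt hx))

include hb

/-- Away from the point the preimage of an affine open is affine. -/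
theorem isAffineOpen_preimage {V : X.Opens} (hV : IsAffineOpen V) (hxV : x ∉ V) : IsAffineOpen (b ⁻¹ᵁ V) := by
  haveI := BlowUpLib.isIso_restrict hb
  have hle : V ≤ (PtBlow.pt hx).support.compl := fun z hz h => by
    have h' : z ∈ ((PtBlow.pt hx).support : Set X) := h
    rw [PtBlow.coe_support_pt hx] at h'
    exact hxV (h' ▸ hz)
  haveI : IsIso (b ∣_ V) := isIso_restrict_le b hle inferInstance
  haveI : IsAffine V.toScheme := hV
  exact IsAffine.of_isIso (b ∣_ V)

/-- Higher cohomology of the structure sheaf over the preimage of a good neighbourhood vanishes. -/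
theorem hu_vanish_good [IsNoetherian X] (W : X.affineOpens) {a c : Γ(X, W.1)}
    (hI : (PtBlow.pt hx).ideal W = Ideal.span {a, c}) (q : ℕ) :
    Subsingleton (CohSite.HU (Coh.toAb (Coh.structureModule X')) (q + 1) (b ⁻¹ᵁ W.1)) := by
  obtain ⟨m, hm, hmr, hmb⟩ := BlowAmp.exists_model hb W
  let U := b ⁻¹ᵁ W.1
  have hr : Set.range m = Set.range U.ι := by rw [hmr, Scheme.Opens.range_ι]
  let e := IsOpenImmersion.isoOfRangeEq m U.ι hr
  have hbl := RZExt.isBlowUp_iso_comp (isBlowUp_affine ((PtBlow.pt hx).ideal W)) e.inv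
  haveI : IsProper (structMap ((PtBlow.pt hx).ideal W)) := isProper_structMap _ (by
    haveI := IsLocallyNoetherian.component_noetherian W
    exact IsNoetherian.noetherian _)
  haveI := subsingleton_hh_two a c _ hI _ hbl q
  obtain ⟨e'⟩ := CohQC.hu_restrict (Coh.structureModule X') U (q + 1)
  haveI : Subsingleton (Coh.HH U ((Coh.structureModule X').restrict U.ι) (q + 1)) :=
    CohQC.hh_subsingleton_of_iso (Scheme.Modules.restrictUnitIso U.ι) (q + 1) ‹_›
  exact e'.toEquiv.subsingleton

end Groth.Agent.PtPush
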